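import Groth.Agent.ZariskiApprox.Core

/-!
# Projective modules over `A[1/t]` and over `Ah[1/t]`
-/

set_option autoImplicit false
set_option linter.style.haveILetI false
set_option linter.unusedSectionVars false

universe u

open Matrix TensorProduct

namespace Groth.Agent.ZariskiApprox

variable {A Ah E Eh : Type u} [CommRing A] [CommRing Ah] [CommRing E] [CommRing Eh]
  [Algebra A Ah] [Algebra A E] [Algebra Ah Eh] [Algebra E Eh] [Algebra A Eh]
  [IsScalarTower A Ah Eh] [IsScalarTower A E Eh] {t : A}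
  [IsLocalization.Away t E] [IsLocalization.Away (algebraMap A Ah t) Eh]
  (hdense : ∀ (y : Ah) (k : ℕ), ∃ (a : A) (z : Ah), y - algebraMap A Ah a = algebraMap A Ah t ^ k * z)
  (hinter : ∀ (a : A) (k : ℕ) (z : Ah), algebraMap A Ah a = algebraMap A Ah t ^ k * z → t ^ k ∣ a)
  (hjac : t ∈ (⊥ : Ideal A).jacobson) (hjach : algebraMap A Ah t ∈ (⊥ : Ideal Ah).jacobson)

theorem tm' {R : Type u} [CommRing R] {k l : ℕ} (L : (Fin l → R) →ₗ[R] (Fin k → R)) :
    LinearMap.toMatrix (Pi.basisFun R (Fin l)) (Pi.basisFun R (Fin k)) L = LinearMap.toMatrix' L := rfl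

/-- An endomorphism congruent to one on a retract of a free module is invertible. -/
theorem isUnit_of_retract {R P : Type u} [CommRing R] [AddCommGroup P] [Module R P] {n : ℕ}
    (π : (Fin n → R) →ₗ[R] P) (σ : P →ₗ[R] (Fin n → R)) (hπσ : π ∘ₗ σ = LinearMap.id) (D : P →ₗ[R] P)
    (h : IsUnit (1 + LinearMap.toMatrix' (σ ∘ₗ D ∘ₗ π))) : Function.Bijective (1 + D : P →ₗ[R] P) := by
  obtain ⟨u, hu⟩ := h
  let Y : (Fin n → R) →ₗ[R] (Fin n → R) := Matrix.toLin' (u⁻¹ : (Matrix (Fin n) (Fin n) R)ˣ).1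
  set T : (Fin n → R) →ₗ[R] (Fin n → R) := LinearMap.id + σ ∘ₗ D ∘ₗ π with hT
  have hT' : Matrix.toLin' (u : Matrix (Fin n) (Fin n) R) = T := by
    rw [hu, map_add, Matrix.toLin'_one, Matrix.toLin'_toMatrix']
  have hYT : Y ∘ₗ T = LinearMap.id := by
    rw [← hT', ← Matrix.toLin'_mul, Units.inv_mul, Matrix.toLin'_one]
  have hTY : T ∘ₗ Y = LinearMap.id := by
    rw [← hT', ← Matrix.toLin'_mul, Units.mul_inv, Matrix.toLin'_one]
  have hps : ∀ x, π (σ x) = x := fun x => LinearMap.congr_fun hπσ x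
  have hTs : ∀ x, T (σ x) = σ ((1 + D : P →ₗ[R] P) x) := fun x => by
    simp [hT, hps]
  have hpT : ∀ x, π (T x) = (1 + D : P →ₗ[R] P) (π x) := fun x => by
    simp [hT, hps]
  refine ⟨fun x y hxy => ?_, fun x => ⟨π (Y (σ x)), ?_⟩⟩
  · have h1 : T (σ x) = T (σ y) := by rw [hTs, hTs, hxy]
    have hYT' : ∀ z, Y (T z) = z := fun z => LinearMap.congr_fun hYT z
    have h2 : π (Y (T (σ x))) = π (Y (T (σ y))) := by rw [h1]
    rwa [hYT', hYT', hps, hps] at h2
  · rw [← hpT, ← LinearMap.comp_apply T Y, hTY, LinearMap.id_apply, hps]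

include hdense hinter hjac in
/-- Projective modules which become isomorphic are isomorphic. -/
theorem nonempty_linearEquiv_of_baseChange (M N : Type u) [AddCommGroup M] [Module E M] [Module.Finite E M]
    [Module.Projective E M] [AddCommGroup N] [Module E N] [Module.Finite E N] [Module.Projective E N]
    (φ : Eh ⊗[E] M ≃ₗ[Eh] Eh ⊗[E] N) : Nonempty (M ≃ₗ[E] N) := by
  classical
  obtain ⟨a, πM, hπM⟩ := Module.Finite.exists_fin' E M
  obtain ⟨b, πN, hπN⟩ := Module.Finite.exists_fin' E N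
  obtain ⟨σM, hσM⟩ := Module.projective_lifting_property πM LinearMap.id hπM
  obtain ⟨σN, hσN⟩ := Module.projective_lifting_property πN LinearMap.id hπN
  let Ba := Algebra.TensorProduct.basis Eh (Pi.basisFun E (Fin a))
  let Bb := Algebra.TensorProduct.basis Eh (Pi.basisFun E (Fin b))
  let pM : Matrix (Fin a) (Fin a) Eh := LinearMap.toMatrix Ba Ba ((σM ∘ₗ πM).baseChange Eh)
  let pN : Matrix (Fin b) (Fin b) Eh := LinearMap.toMatrix Bb Bb ((σN ∘ₗ πN).baseChange Eh)
  let Φ : Matrix (Fin b) (Fin a) Eh :=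
    LinearMap.toMatrix Ba Bb (σN.baseChange Eh ∘ₗ φ.toLinearMap ∘ₗ πM.baseChange Eh)
  let Ψ : Matrix (Fin a) (Fin b) Eh :=
    LinearMap.toMatrix Bb Ba (σM.baseChange Eh ∘ₗ φ.symm.toLinearMap ∘ₗ πN.baseChange Eh)
  have hM1 : ∀ x, πM.baseChange Eh (σM.baseChange Eh x) = x := fun x => by
    rw [← LinearMap.comp_apply, ← LinearMap.baseChange_comp, hσM, LinearMap.baseChange_id, LinearMap.id_apply]
  have hN1 : ∀ x, πN.baseChange Eh (σN.baseChange Eh x) = x := fun x => by
    rw [← LinearMap.comp_apply, ← LinearMap.baseChange_comp, hσN, LinearMap.baseChange_id, LinearMap.id_apply]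
  have hσM' : ∀ z, πM (σM z) = z := fun z => LinearMap.congr_fun hσM z
  have hσN' : ∀ z, πN (σN z) = z := fun z => LinearMap.congr_fun hσN z
  have hNN : pN * Φ = Φ := by
    rw [← LinearMap.toMatrix_comp]
    congr 1
    ext x
    simp [LinearMap.baseChange_comp, hN1, hM1, hσM', hσN']
  have hMM : pM * Ψ = Ψ := by
    rw [← LinearMap.toMatrix_comp]
    congr 1
    ext x
    simp [LinearMap.baseChange_comp, hM1, hN1, hσM', hσN']
  have hΦp : Φ * pM = Φ := by
    rw [← LinearMap.toMatrix_comp]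
    congr 1
    ext x
    simp [LinearMap.baseChange_comp, hM1, hN1, hσM', hσN']
  have hΨp : Ψ * pN = Ψ := by
    rw [← LinearMap.toMatrix_comp]
    congr 1
    ext x
    simp [LinearMap.baseChange_comp, hN1, hM1, hσM', hσN']
  have hΨΦ : Ψ * Φ = pM := by
    rw [← LinearMap.toMatrix_comp]
    congr 1
    ext x
    simp [LinearMap.baseChange_comp, hN1, hM1, hσM', hσN']
  have hΦΨ : Φ * Ψ = pN := by
    rw [← LinearMap.toMatrix_comp]
    congr 1
    ext x
    simp [LinearMap.baseChange_comp, hM1, hN1, hσM', hσN']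
  obtain ⟨c₁, h₁⟩ := exists_bddM (Ah := Ah) (t := t) Φ
  obtain ⟨c₂, h₂⟩ := exists_bddM (Ah := Ah) (t := t) Ψ
  obtain ⟨c₃, h₃⟩ := exists_bddM (Ah := Ah) (t := t) pM
  obtain ⟨c₄, h₄⟩ := exists_bddM (Ah := Ah) (t := t) pN
  obtain ⟨c, hc₁, hc₂, hc₃, hc₄⟩ : ∃ c, c₁ ≤ c ∧ c₂ ≤ c ∧ c₃ ≤ c ∧ c₄ ≤ c :=
    ⟨c₁ + c₂ + c₃ + c₄, by omega, by omega, by omega, by omega⟩
  have b₁ : BddM t Ah c Φ := fun i j => (h₁ i j).mono hc₁
  have b₂ : BddM t Ah c Ψ := fun i j => (h₂ i j).mono hc₂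
  have b₃ : BddM t Ah c pM := fun i j => (h₃ i j).mono hc₃
  have b₄ : BddM t Ah c pN := fun i j => (h₄ i j).mono hc₄
  obtain ⟨f, hf⟩ := exists_approx (Ah := Ah) (E := E) (t := t) hdense Φ (1 + c + c + c + c)
  obtain ⟨g, hg⟩ := exists_approx (Ah := Ah) (E := E) (t := t) hdense Ψ (1 + c + c + c + c)
  let F : M →ₗ[E] N := πN ∘ₗ Matrix.toLin' f ∘ₗ σM
  let G : N →ₗ[E] M := πM ∘ₗ Matrix.toLin' g ∘ₗ σN
  have hmap : ∀ {k l : ℕ} (X : Matrix (Fin k) (Fin l) E),
      LinearMap.toMatrix (Algebra.TensorProduct.basis Eh (Pi.basisFun E (Fin l)))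
        (Algebra.TensorProduct.basis Eh (Pi.basisFun E (Fin k))) ((Matrix.toLin' X).baseChange Eh) =
      X.map (algebraMap E Eh) := fun X => by
    rw [LinearMap.toMatrix_baseChange, tm', LinearMap.toMatrix'_toLin']
  have hmapσ : ∀ {k l : ℕ} (L : (Fin l → E) →ₗ[E] (Fin k → E)),
      (LinearMap.toMatrix' L).map (algebraMap E Eh) =
      LinearMap.toMatrix (Algebra.TensorProduct.basis Eh (Pi.basisFun E (Fin l)))
        (Algebra.TensorProduct.basis Eh (Pi.basisFun E (Fin k))) (L.baseChange Eh) := fun L => by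
    rw [LinearMap.toMatrix_baseChange, tm']
  have hbd : ∀ {k l : ℕ} (c : ℕ) (X : Matrix (Fin k) (Fin l) Eh) (Y : Matrix (Fin k) (Fin l) Eh),
      BddM t Ah c X → SmallM t Ah 0 (Y - X) → BddM t Ah c Y := fun c X Y hX hY i j => by
    obtain ⟨u, hu⟩ := hX i j
    obtain ⟨v, hv⟩ := hY.bdd (c := c) i j
    refine ⟨u + v, ?_⟩
    rw [map_add, ← hu, ← hv, Matrix.sub_apply]
    ring
  have hGF : Function.Bijective (G ∘ₗ F) := by
    have e : G ∘ₗ F = 1 + (G ∘ₗ F - LinearMap.id) := by rw [Module.End.one_eq_id]; abel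
    rw [e]
    refine isUnit_of_retract πM σM hσM _ (isUnit_one_add (Ah := Ah) (Eh := Eh) hinter hjac ?_)
    have e2 : (LinearMap.toMatrix' (σM ∘ₗ (G ∘ₗ F - LinearMap.id) ∘ₗ πM)).map (algebraMap E Eh) =
        pM * (g.map (algebraMap E Eh)) * pN * (f.map (algebraMap E Eh)) * pM - pM := by
      rw [hmapσ, ← hmap g, ← hmap f, ← LinearMap.toMatrix_comp, ← LinearMap.toMatrix_comp,
        ← LinearMap.toMatrix_comp, ← LinearMap.toMatrix_comp, ← map_sub]
      congr 1
      simp only [F, G, LinearMap.sub_comp, LinearMap.comp_sub, LinearMap.id_comp, LinearMap.baseChange_sub,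
        LinearMap.baseChange_comp, LinearMap.comp_assoc]
    have e3 : pM * (g.map (algebraMap E Eh)) * pN * (f.map (algebraMap E Eh)) * pM - pM =
        pM * (g.map (algebraMap E Eh) - Ψ) * pN * f.map (algebraMap E Eh) * pM +
          Ψ * (f.map (algebraMap E Eh) - Φ) * pM := by
      have e4 : Ψ * Φ * pM = pM := by rw [Matrix.mul_assoc, hΦp, hΨΦ]
      simp only [Matrix.mul_sub, Matrix.sub_mul, hMM, hΨp, e4]
      abel
    rw [e2, e3]
    refine SmallM.add ?_ ?_
    · have s1 : SmallM t Ah (1 + c + c + c) (pM * (g.map (algebraMap E Eh) - Ψ)) :=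
        SmallM.mul_left b₃ hg
      exact (((s1.mul_right b₄).mul_right (hbd c Φ _ b₁ (hf.mono (Nat.zero_le _)))).mul_right b₃)
    · exact ((SmallM.mul_left (k := 1 + c) b₂ (hf.mono (by omega))).mul_right b₃)
  have hFG : Function.Bijective (F ∘ₗ G) := by
    have e : F ∘ₗ G = 1 + (F ∘ₗ G - LinearMap.id) := by rw [Module.End.one_eq_id]; abel
    rw [e]
    refine isUnit_of_retract πN σN hσN _ (isUnit_one_add (Ah := Ah) (Eh := Eh) hinter hjac ?_)
    have e2 : (LinearMap.toMatrix' (σN ∘ₗ (F ∘ₗ G - LinearMap.id) ∘ₗ πN)).map (algebraMap E Eh) =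
        pN * (f.map (algebraMap E Eh)) * pM * (g.map (algebraMap E Eh)) * pN - pN := by
      rw [hmapσ, ← hmap g, ← hmap f, ← LinearMap.toMatrix_comp, ← LinearMap.toMatrix_comp,
        ← LinearMap.toMatrix_comp, ← LinearMap.toMatrix_comp, ← map_sub]
      congr 1
      simp only [F, G, LinearMap.sub_comp, LinearMap.comp_sub, LinearMap.id_comp, LinearMap.baseChange_sub,
        LinearMap.baseChange_comp, LinearMap.comp_assoc]
    have e3 : pN * (f.map (algebraMap E Eh)) * pM * (g.map (algebraMap E Eh)) * pN - pN =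
        pN * (f.map (algebraMap E Eh) - Φ) * pM * g.map (algebraMap E Eh) * pN +
          Φ * (g.map (algebraMap E Eh) - Ψ) * pN := by
      have e4 : Φ * Ψ * pN = pN := by rw [Matrix.mul_assoc, hΨp, hΦΨ]
      simp only [Matrix.mul_sub, Matrix.sub_mul, hNN, hΦp, e4]
      abel
    rw [e2, e3]
    refine SmallM.add ?_ ?_
    · have s1 : SmallM t Ah (1 + c + c + c) (pN * (f.map (algebraMap E Eh) - Φ)) :=
        SmallM.mul_left b₄ hf
      exact (((s1.mul_right b₃).mul_right (hbd c Ψ _ b₂ (hg.mono (Nat.zero_le _)))).mul_right b₄)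
    · exact ((SmallM.mul_left (k := 1 + c) b₁ (hg.mono (by omega))).mul_right b₄)
  have hFi : Function.Injective F := fun x y h => hGF.1 (congrArg G h)
  have hFs : Function.Surjective F := fun y => ⟨G ((hFG.2 y).choose), (hFG.2 y).choose_spec⟩
  exact ⟨LinearEquiv.ofBijective F ⟨hFi, hFs⟩⟩

include hdense hinter hjac hjach in
/-- Stably free modules are extended. -/
theorem exists_stablyFree (M' : Type u) [AddCommGroup M'] [Module Eh M'] (n m : ℕ)
    (e : (M' × (Fin n → Eh)) ≃ₗ[Eh] (Fin m → Eh)) :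
    ∃ (M : Type u) (_ : AddCommGroup M) (_ : Module E M), Module.Finite E M ∧
      (∃ n m : ℕ, Nonempty ((M × (Fin n → E)) ≃ₗ[E] (Fin m → E))) ∧ Nonempty (Eh ⊗[E] M ≃ₗ[Eh] M') := by
  classical
  let F₀ : (Fin m → Eh) →ₗ[Eh] (Fin n → Eh) := LinearMap.snd Eh M' _ ∘ₗ e.symm.toLinearMap
  let G₀ : (Fin n → Eh) →ₗ[Eh] (Fin m → Eh) := e.toLinearMap ∘ₗ LinearMap.inr Eh M' _
  have hFG : LinearMap.toMatrix' F₀ * LinearMap.toMatrix' G₀ = 1 := by
    rw [← LinearMap.toMatrix'_comp, show F₀ ∘ₗ G₀ = LinearMap.id from LinearMap.ext fun x => by simp [F₀, G₀],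
      LinearMap.toMatrix'_id]
  set Fm := LinearMap.toMatrix' F₀
  set Gm := LinearMap.toMatrix' G₀
  obtain ⟨c₁, h₁⟩ := exists_bddM (Ah := Ah) (t := t) Fm
  obtain ⟨c₂, h₂⟩ := exists_bddM (Ah := Ah) (t := t) Gm
  have b₁ : BddM t Ah (c₁ + c₂) Fm := fun i j => (h₁ i j).mono (Nat.le_add_right _ _)
  have b₂ : BddM t Ah (c₁ + c₂) Gm := fun i j => (h₂ i j).mono (Nat.le_add_left _ _)
  set c := c₁ + c₂
  obtain ⟨f, hf⟩ := exists_approx (Ah := Ah) (E := E) (t := t) hdense Fm (1 + c + c)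
  obtain ⟨g, hg⟩ := exists_approx (Ah := Ah) (E := E) (t := t) hdense Gm (1 + c + c)
  have hbg : BddM t Ah c (g.map (algebraMap E Eh)) := fun i j => by
    obtain ⟨u, hu⟩ := b₂ i j
    obtain ⟨v, hv⟩ := hg.bdd (c := c) i j
    refine ⟨u + v, ?_⟩
    rw [map_add, ← hu, ← hv, Matrix.sub_apply]
    ring
  obtain ⟨u, hu⟩ : IsUnit (f * g) := by
    have h := isUnit_one_add (Ah := Ah) (Eh := Eh) (E := E) hinter hjac (X := f * g - 1) (by
      have e3 : (f * g - 1).map (algebraMap E Eh) =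
          (f.map (algebraMap E Eh) - Fm) * g.map (algebraMap E Eh) + Fm * (g.map (algebraMap E Eh) - Gm) := by
        rw [Matrix.map_sub _ (map_sub _), Matrix.map_mul, Matrix.map_one _ (map_zero _) (map_one _)]
        simp only [Matrix.mul_sub, Matrix.sub_mul, hFG]
        abel
      rw [e3]
      exact ((hf.mul_right (k := 1 + c) hbg).mono (Nat.le_add_right _ _)).add
        ((SmallM.mul_left (k := 1 + c) b₁ hg).mono (Nat.le_add_right _ _)))
    rwa [add_sub_cancel] at h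
  obtain ⟨v, hv⟩ : IsUnit (1 + Gm * (f.map (algebraMap E Eh) - Fm)) :=
    isUnit_one_add_completed hjach ((SmallM.mul_left (k := 1 + c) b₂ hf).mono (Nat.le_add_right _ _))
  -- the module
  let fl := Matrix.toLin' f
  let s : (Fin n → E) →ₗ[E] (Fin m → E) := Matrix.toLin' (g * (↑u⁻¹ : Matrix (Fin n) (Fin n) E))
  have hfs : fl ∘ₗ s = LinearMap.id := by
    rw [← Matrix.toLin'_mul, ← Matrix.mul_assoc, ← hu, Units.mul_inv, Matrix.toLin'_one]
  have hfs' : ∀ y, fl (s y) = y := fun y => LinearMap.congr_fun hfs y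
  let pr : (Fin m → E) →ₗ[E] LinearMap.ker fl :=
    (LinearMap.id - s ∘ₗ fl).codRestrict _ fun x => by simp [hfs']
  have hpr : Function.Surjective pr := fun x => ⟨x, Subtype.ext (by simp [pr, LinearMap.mem_ker.mp x.2])⟩
  let eM : (LinearMap.ker fl × (Fin n → E)) ≃ₗ[E] (Fin m → E) :=
    LinearEquiv.ofLinear ((LinearMap.ker fl).subtype.coprod s) (pr.prod fl)
      (LinearMap.ext fun x => by simp [pr])
      (LinearMap.ext fun x => Prod.ext (Subtype.ext (by simp [pr, hfs', LinearMap.mem_ker.mp x.1.2]))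
        (by simp [hfs', LinearMap.mem_ker.mp x.1.2]))
  refine ⟨LinearMap.ker fl, inferInstance, inferInstance, Module.Finite.of_surjective pr hpr, ⟨n, m, ⟨eM⟩⟩, ?_⟩
  -- its base change
  let incl := (LinearMap.ker fl).subtype.baseChange Eh
  let prh := pr.baseChange Eh
  have hpi : prh ∘ₗ incl = LinearMap.id := by
    rw [← LinearMap.baseChange_comp, show pr ∘ₗ (LinearMap.ker fl).subtype = LinearMap.id from
      LinearMap.ext fun x => Subtype.ext (by simp [pr, LinearMap.mem_ker.mp x.2]), LinearMap.baseChange_id]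
  have hip : incl ∘ₗ prh = LinearMap.id - s.baseChange Eh ∘ₗ fl.baseChange Eh := by
    rw [← LinearMap.baseChange_comp, ← LinearMap.baseChange_comp, ← LinearMap.baseChange_id, ← LinearMap.baseChange_sub]
    rfl
  have hfi : fl.baseChange Eh ∘ₗ incl = 0 := by
    rw [← LinearMap.baseChange_comp, show fl ∘ₗ (LinearMap.ker fl).subtype = 0 from
      LinearMap.ext fun x => LinearMap.mem_ker.mp x.2, LinearMap.baseChange_zero]
  let Bm := Algebra.TensorProduct.basis Eh (Pi.basisFun E (Fin m))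
  let Bn := Algebra.TensorProduct.basis Eh (Pi.basisFun E (Fin n))
  let fh := Matrix.toLin' (f.map (algebraMap E Eh))
  have hfh : ∀ z, fh (Bm.equivFun z) = Bn.equivFun (fl.baseChange Eh z) := fun z => by
    have h : LinearMap.toMatrix Bm Bn (fl.baseChange Eh) = f.map (algebraMap E Eh) := by
      rw [LinearMap.toMatrix_baseChange, tm', LinearMap.toMatrix'_toLin']
    funext i
    rw [Matrix.toLin'_apply, ← h, Module.Basis.equivFun_apply, Module.Basis.equivFun_apply]
    exact congrFun (LinearMap.toMatrix_mulVec_repr Bm Bn _ z) i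
  have h3 : ∀ x, incl x ∈ LinearMap.ker (fl.baseChange Eh) := fun x => LinearMap.congr_fun hfi x
  let k₁ : Eh ⊗[E] LinearMap.ker fl ≃ₗ[Eh] LinearMap.ker (fl.baseChange Eh) :=
    LinearEquiv.ofBijective (incl.codRestrict _ h3)
      ⟨fun x y h => by
        have := congrArg (fun w => prh w) (congrArg Subtype.val h)
        simpa [← LinearMap.comp_apply, hpi] using this,
      fun z => ⟨prh z.1, Subtype.ext (by
        have := LinearMap.congr_fun hip z.1
        simpa [LinearMap.mem_ker.mp z.2] using this)⟩⟩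
  let k₂ : LinearMap.ker (fl.baseChange Eh) ≃ₗ[Eh] LinearMap.ker fh :=
    Bm.equivFun.ofSubmodules _ _ (by
      ext y
      simp only [Submodule.mem_map, LinearMap.mem_ker, LinearEquiv.coe_coe]
      constructor
      · rintro ⟨z, hz, rfl⟩; rw [hfh, hz, map_zero]
      · intro hy
        refine ⟨Bm.equivFun.symm y, Bn.equivFun.injective ?_, Bm.equivFun.apply_symm_apply y⟩
        rw [← hfh, LinearEquiv.apply_symm_apply, hy, map_zero])
  let H := Matrix.toLinearEquiv' (v : Matrix (Fin m) (Fin m) Eh) v.invertible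
  have hH : ∀ y, H y = y + G₀ (fh y - F₀ y) := fun y => by
    show Matrix.toLin' (v : Matrix (Fin m) (Fin m) Eh) y = _
    rw [hv, map_add, Matrix.toLin'_one, Matrix.toLin'_mul, map_sub, Matrix.toLin'_toMatrix',
      Matrix.toLin'_toMatrix']
    rfl
  have hFH : ∀ y, F₀ (H y) = fh y := fun y => by
    rw [hH, map_add, show F₀ (G₀ (fh y - F₀ y)) = fh y - F₀ y by simp [F₀, G₀]]
    abel
  let k₃ : LinearMap.ker fh ≃ₗ[Eh] LinearMap.ker F₀ :=
    H.ofSubmodules _ _ (by
      ext y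
      simp only [Submodule.mem_map, LinearMap.mem_ker, LinearEquiv.coe_coe]
      constructor
      · rintro ⟨z, hz, rfl⟩; rw [hFH, hz]
      · intro hy
        exact ⟨H.symm y, by rw [← hFH, LinearEquiv.apply_symm_apply, hy], H.apply_symm_apply y⟩)
  let k₄ : LinearMap.ker F₀ ≃ₗ[Eh] M' :=
    LinearEquiv.ofLinear (LinearMap.fst Eh M' _ ∘ₗ e.symm.toLinearMap ∘ₗ (LinearMap.ker F₀).subtype)
      ((e.toLinearMap ∘ₗ LinearMap.inl Eh M' _).codRestrict _ fun x => by simp [F₀])
      (LinearMap.ext fun x => by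
        show (e.symm (e (x, (0 : Fin n → Eh)))).1 = x
        simp)
      (LinearMap.ext fun x => Subtype.ext (by
        have h : (e.symm (x : Fin m → Eh)).2 = 0 := LinearMap.mem_ker.mp x.2
        show e ((e.symm (x : Fin m → Eh)).1, (0 : Fin n → Eh)) = x
        rw [← h]
        simp))
  exact ⟨k₁.trans (k₂.trans (k₃.trans k₄))⟩

end Groth.Agent.ZariskiApprox
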