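import Groth.Agent.ZariskiApprox.Modules
import Groth.Agent.Hensel.PairBasic

/-!
# Idempotent matrices over `Ah[1/t]` for a henselian pair `(A, t A)`
-/

set_option autoImplicit false
set_option linter.style.haveILetI false
set_option linter.unusedSectionVars false

universe u

open Matrix TensorProduct

namespace Groth.Agent.ZariskiApprox

variable {A Ah E Eh : Type u} [CommRing A] [CommRing Ah] [CommRing E] [CommRing Eh]
  [Algebra A Ah] [Algebra A E] [Algebra Ah Eh] [Algebra E Eh] [Algebra A Eh]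
  [IsScalarTower A Ah Eh] [IsScalarTower A E Eh] {t : A}

section

variable {m n : Type*} [Fintype m] [Fintype n] [DecidableEq m] [DecidableEq n]

theorem SmallM.neg {k : ℕ} {X : Matrix m n Eh} (hX : SmallM t Ah k X) : SmallM t Ah k (-X) := fun i j => by
  obtain ⟨a, ha⟩ := hX i j
  exact ⟨-a, by rw [Matrix.neg_apply, ha, map_neg, mul_neg]⟩

theorem SmallM.sub {k : ℕ} {X Y : Matrix m n Eh} (hX : SmallM t Ah k X) (hY : SmallM t Ah k Y) :
    SmallM t Ah k (X - Y) := sub_eq_add_neg X Y ▸ hX.add hY.neg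

theorem BddM.add {c : ℕ} {X Y : Matrix m n Eh} (hX : BddM t Ah c X) (hY : BddM t Ah c Y) :
    BddM t Ah c (X + Y) := fun i j => by
  obtain ⟨a, ha⟩ := hX i j
  obtain ⟨b, hb⟩ := hY i j
  exact ⟨a + b, by rw [Matrix.add_apply, mul_add, ha, hb, map_add]⟩

theorem bddM_one (c : ℕ) : BddM t Ah c (1 : Matrix n n Eh) := fun i j => by
  refine ⟨algebraMap A Ah t ^ c * (if i = j then 1 else 0), ?_⟩
  rw [Matrix.one_apply, map_mul, map_pow, ← IsScalarTower.algebraMap_apply]
  split <;> simp

end

variable [IsLocalization.Away t E] [IsLocalization.Away (algebraMap A Ah t) Eh]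

/-- The entrywise map to the matrices over `E`. -/
noncomputable def toE (E : Type u) [CommRing E] [Algebra A E] (n : ℕ) :
    Matrix (Fin n) (Fin n) A →ₐ[A] Matrix (Fin n) (Fin n) E := (Algebra.ofId A E).mapMatrix

theorem toE_apply {n : ℕ} (X : Matrix (Fin n) (Fin n) A) : toE E n X = X.map (algebraMap A E) := rfl

include E in
/-- A root of `w ^ 2 - w + v` near zero, for `v` divisible by `t ^ (k + 1)`. -/
theorem exists_root [HenselianRing A (Ideal.span {t})] {n : ℕ} (M : Matrix (Fin n) (Fin n) A) (k : ℕ)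
    (f : Matrix (Fin n) (Fin n) E) (hf : Commute f (toE E n (t ^ (k + 1) • M))) :
    ∃ W : Matrix (Fin n) (Fin n) A, t ^ (k + 1) • M = t ^ (k + 1) • W - (t ^ (k + 1) • W) * (t ^ (k + 1) • W) ∧
      Commute f (toE E n (t ^ (k + 1) • W)) := by
  classical
  let C := Algebra.adjoin A ({M} : Set (Matrix (Fin n) (Fin n) A))
  letI : CommRing C := Algebra.adjoinCommRingOfComm A (by simp)
  haveI : Algebra.IsIntegral A C := ⟨fun c =>
    (isIntegral_algHom_iff C.val Subtype.val_injective).mp (IsIntegral.of_finite A _)⟩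
  haveI : HenselianRing C ((Ideal.span {t}).map (algebraMap A C)) :=
    Hensel.henselianRing_of_isIntegral' _ C
  let M' : C := ⟨M, Algebra.subset_adjoin rfl⟩
  set v : C := t ^ (k + 1) • M' with hv
  have hJ : (Ideal.span {t}).map (algebraMap A C) = Ideal.span {algebraMap A C t} := by
    rw [Ideal.map_span, Set.image_singleton]
  have hvJ : v ∈ (Ideal.span {t}).map (algebraMap A C) := by
    rw [hv, Algebra.smul_def, hJ, map_pow, pow_succ', mul_assoc]
    exact Ideal.mul_mem_right _ _ (Ideal.mem_span_singleton_self _)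
  open Polynomial in
  obtain ⟨w, hw, hw0⟩ := HenselianRing.is_henselian (I := (Ideal.span {t}).map (algebraMap A C))
    (Polynomial.X ^ 2 - Polynomial.X + Polynomial.C v : C[X]) (by monicity!) 0
    (by simpa using hvJ) (by simp)
  rw [sub_zero] at hw0
  have hroot : w ^ 2 - w + v = 0 := by simpa [Polynomial.IsRoot] using hw
  obtain ⟨z, hz⟩ : IsUnit (1 - w) := by
    have h := Ideal.mem_jacobson_bot.mp (HenselianRing.jac (I := (Ideal.span {t}).map (algebraMap A C)) hw0) (-1)
    rwa [mul_neg_one, neg_add_eq_sub] at h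
  set W : C := M' * ↑z⁻¹ with hW
  have hwW : w = t ^ (k + 1) • W := by
    rw [hW, ← smul_mul_assoc, ← hv, Units.eq_mul_inv_iff_mul_eq, hz]
    linear_combination -hroot
  refine ⟨W, ?_, ?_⟩
  · have h : C.val v = C.val w - C.val w * C.val w := by
      rw [← map_mul, ← map_sub]
      congr 1
      linear_combination hroot
    rw [hwW, hv] at h
    simpa [Subalgebra.coe_val] using h
  · -- everything in `C` commutes with `f`
    have hM : Commute f (toE E n M) := by
      obtain ⟨u, hu⟩ := (IsLocalization.Away.algebraMap_isUnit (S := E) t).pow (k + 1)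
      have hf' : Commute f (algebraMap A E t ^ (k + 1) • toE E n M) := by
        rwa [← map_pow, algebraMap_smul, ← map_smul]
      rw [← hu] at hf'
      simpa [smul_smul] using hf'.smul_right ((u⁻¹ : Eˣ) : E)
    have key : C ≤ (Subalgebra.centralizer A {f}).comap (toE E n) :=
      Algebra.adjoin_le (Set.singleton_subset_iff.mpr (by
        simp only [SetLike.mem_coe, Subalgebra.mem_comap, Subalgebra.mem_centralizer_iff, Set.mem_singleton_iff,
          forall_eq]
        exact hM))
    have h := key (t ^ (k + 1) • W).2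
    simp only [Subalgebra.mem_comap, Subalgebra.mem_centralizer_iff, Set.mem_singleton_iff, forall_eq] at h
    exact h

variable (hdense : ∀ (y : Ah) (k : ℕ), ∃ (a : A) (z : Ah), y - algebraMap A Ah a = algebraMap A Ah t ^ k * z)
  (hinter : ∀ (a : A) (k : ℕ) (z : Ah), algebraMap A Ah a = algebraMap A Ah t ^ k * z → t ^ k ∣ a)

include hdense hinter in
/-- Idempotent matrices over `Ah[1/t]` are approximated by idempotent matrices over `A[1/t]`. -/
theorem exists_idempotent_approx [HenselianRing A (Ideal.span {t})] {n : ℕ} (P : Matrix (Fin n) (Fin n) Eh)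
    (hP : P * P = P) (K : ℕ) :
    ∃ q : Matrix (Fin n) (Fin n) E, q * q = q ∧ SmallM t Ah K (q.map (algebraMap E Eh) - P) := by
  classical
  let Φ : Matrix (Fin n) (Fin n) E →+* Matrix (Fin n) (Fin n) Eh := (algebraMap E Eh).mapMatrix
  obtain ⟨c, hc⟩ := exists_bddM (Ah := Ah) (t := t) P
  obtain ⟨f, hf⟩ := exists_approx (Ah := Ah) (E := E) (t := t) hdense P (K + 1 + c + c)
  have hfb : BddM t Ah c (f.map (algebraMap E Eh)) := fun i j => by
    obtain ⟨a, ha⟩ := hc i j
    obtain ⟨b, hb⟩ := hf.bdd (c := c) i j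
    refine ⟨a + b, ?_⟩
    rw [map_add, ← ha, ← hb, Matrix.sub_apply]
    ring
  set u := f * f - f with hu
  have husm : SmallM t Ah (K + 1 + c) (u.map (algebraMap E Eh)) := by
    have e : u.map (algebraMap E Eh) = (f.map (algebraMap E Eh) - P) * f.map (algebraMap E Eh) +
        (P * (f.map (algebraMap E Eh) - P) - (f.map (algebraMap E Eh) - P)) := by
      rw [hu, Matrix.map_sub _ (map_sub _), Matrix.map_mul]
      simp only [Matrix.sub_mul, Matrix.mul_sub, hP]
      abel
    rw [e]
    exact (hf.mul_right hfb).add ((SmallM.mul_left hc hf).sub (hf.mono (Nat.le_add_right _ _)))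
  choose U hU using fun i j => small_reflect (E := E) (Eh := Eh) hinter (husm i j)
  have hu' : u = toE E n (t ^ (K + 1 + c) • Matrix.of U) := by
    ext i j
    rw [toE_apply, Matrix.map_apply, Matrix.smul_apply, Matrix.of_apply, smul_eq_mul, map_mul, map_pow]
    exact hU i j
  set U0 := Matrix.of U
  have hidx : K + 1 + c = (K + c) + 1 := by omega
  rw [hidx] at hu'
  set k := K + c
  obtain ⟨D, hD⟩ : IsUnit (1 + t ^ (k + 1) • ((4 : A) • U0)) := by
    rw [Matrix.isUnit_iff_isUnit_det]
    have h0 : (Ideal.Quotient.mk (⊥ : Ideal A).jacobson).mapMatrix (1 + t ^ (k + 1) • ((4 : A) • U0)) = 1 := by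
      have ht : Ideal.Quotient.mk (⊥ : Ideal A).jacobson t = 0 := Ideal.Quotient.eq_zero_iff_mem.mpr
        (HenselianRing.jac (I := Ideal.span {t}) (Ideal.mem_span_singleton_self t))
      ext i j
      simp [Matrix.one_apply, apply_ite (Ideal.Quotient.mk _), ht]
    have hdet : (1 + t ^ (k + 1) • ((4 : A) • U0)).det - 1 ∈ (⊥ : Ideal A).jacobson := by
      rw [← Ideal.Quotient.eq_zero_iff_mem, map_sub, map_one, RingHom.map_det, h0, Matrix.det_one, sub_self]
    have h1 := Ideal.mem_jacobson_bot.mp hdet 1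
    rwa [mul_one, sub_add_cancel] at h1
  set M : Matrix (Fin n) (Fin n) A := U0 * (D⁻¹ : (Matrix (Fin n) (Fin n) A)ˣ).1 with hMdef
  let D' : (Matrix (Fin n) (Fin n) E)ˣ := Units.map (toE E n).toRingHom.toMonoidHom D
  have hD' : (D' : Matrix (Fin n) (Fin n) E) = 1 + 4 • u := by
    show toE E n D.1 = _
    rw [hD, map_add, map_one, smul_comm (t ^ (k + 1)) (4 : A), map_smul, ← hu', ← Nat.cast_smul_eq_nsmul A]
    norm_num
  have hfu : Commute f u := ((Commute.refl f).mul_right (Commute.refl f)).sub_right (Commute.refl f)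
  have hfD : Commute f (↑D'⁻¹ : Matrix (Fin n) (Fin n) E) := by
    refine Commute.units_inv_right ?_
    rw [hD']
    exact (Commute.one_right f).add_right (hfu.smul_right 4)
  have hv : toE E n (t ^ (k + 1) • M) = u * (↑D'⁻¹ : Matrix (Fin n) (Fin n) E) := by
    rw [hMdef, ← smul_mul_assoc, map_mul, ← hu']
    rfl
  obtain ⟨W, hW, hfw⟩ := exists_root M k f (by rw [hv]; exact hfu.mul_right hfD)
  set w := toE E n (t ^ (k + 1) • W) with hwdef
  have hwv : u * (↑D'⁻¹ : Matrix (Fin n) (Fin n) E) = w - w * w := by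
    rw [← hv, hW, map_sub, map_mul]
  refine ⟨f + (1 - 2 • f) * w, ?_, ?_⟩
  · have h2 : (1 - 2 • f) * (1 - 2 • f) = (D' : Matrix (Fin n) (Fin n) E) := by
      rw [hD', hu]
      noncomm_ring
    have h1 : (D' : Matrix (Fin n) (Fin n) E) * (w - w * w) = u := by
      rw [← hwv, ← mul_assoc, show (D' : Matrix (Fin n) (Fin n) E) * u = u * D' by
        rw [hD']; exact ((Commute.one_left u).add_left ((Commute.refl u).smul_left 4)).eq, mul_assoc,
        Units.mul_inv, mul_one]
    have hc1 : w * f = f * w := hfw.eq.symm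
    have hc2 : w * (1 - 2 • f) = (1 - 2 • f) * w := by
      rw [mul_sub, sub_mul, mul_smul_comm, smul_mul_assoc, hc1, one_mul, mul_one]
    rw [← sub_eq_zero]
    calc (f + (1 - 2 • f) * w) * (f + (1 - 2 • f) * w) - (f + (1 - 2 • f) * w)
        = f * f - f + f * ((1 - 2 • f) * w) + (1 - 2 • f) * (w * f) - (1 - 2 • f) * w +
            (1 - 2 • f) * (w * (1 - 2 • f)) * w := by noncomm_ring
      _ = u - (1 - 2 • f) * (1 - 2 • f) * (w - w * w) := by
          rw [hc1, hc2, hu]
          noncomm_ring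
      _ = 0 := by rw [h2, h1, sub_self]
  · have e : (f + (1 - 2 • f) * w).map (algebraMap E Eh) - P = (f.map (algebraMap E Eh) - P) +
        (w.map (algebraMap E Eh) - (f.map (algebraMap E Eh) * w.map (algebraMap E Eh) +
          f.map (algebraMap E Eh) * w.map (algebraMap E Eh))) := by
      show Φ (f + (1 - 2 • f) * w) - P = (Φ f - P) + (Φ w - (Φ f * Φ w + Φ f * Φ w))
      rw [map_add, map_mul, map_sub, map_one, map_nsmul, sub_mul, one_mul, two_nsmul, add_mul]
      abel
    have hws : SmallM t Ah (k + 1) (w.map (algebraMap E Eh)) := fun i j => by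
      refine ⟨algebraMap A Ah (W i j), ?_⟩
      rw [hwdef, toE_apply, Matrix.map_apply, Matrix.map_apply, Matrix.smul_apply, smul_eq_mul,
        ← IsScalarTower.algebraMap_apply, map_mul, map_pow, ← IsScalarTower.algebraMap_apply]
    have hfw' : SmallM t Ah K (f.map (algebraMap E Eh) * w.map (algebraMap E Eh)) :=
      SmallM.mul_left hfb (hws.mono (show K + c ≤ k + 1 by omega))
    rw [e]
    exact (hf.mono (by omega)).add ((hws.mono (by omega)).sub (hfw'.add hfw'))

include hdense hinter in
/-- Finite projective modules are extended. -/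
theorem exists_projective [HenselianRing A (Ideal.span {t})]
    (hjach : algebraMap A Ah t ∈ (⊥ : Ideal Ah).jacobson) (M' : Type u) [AddCommGroup M'] [Module Eh M']
    [Module.Finite Eh M'] [Module.Projective Eh M'] :
    ∃ (M : Type u) (_ : AddCommGroup M) (_ : Module E M), Module.Finite E M ∧ Module.Projective E M ∧
      Nonempty (Eh ⊗[E] M ≃ₗ[Eh] M') := by
  classical
  obtain ⟨n, π, hπ⟩ := Module.Finite.exists_fin' Eh M'
  obtain ⟨σ, hσ⟩ := Module.projective_lifting_property π LinearMap.id hπ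
  have hσ' : ∀ x, π (σ x) = x := fun x => LinearMap.congr_fun hσ x
  set P := LinearMap.toMatrix' (σ ∘ₗ π) with hPdef
  have hPP : P * P = P := by
    rw [hPdef, ← LinearMap.toMatrix'_comp]
    congr 1
    ext x
    simp [hσ']
  obtain ⟨c, hc⟩ := exists_bddM (Ah := Ah) (t := t) P
  obtain ⟨q, hq, hqs⟩ := exists_idempotent_approx (E := E) hdense hinter P hPP (1 + c)
  set qh := q.map (algebraMap E Eh) with hqh
  have hqq : qh * qh = qh := by rw [hqh, ← Matrix.map_mul, hq]
  obtain ⟨T, hT⟩ : IsUnit (1 + ((qh - P) * P + (qh - P) * P - (qh - P))) :=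
    isUnit_one_add_completed hjach (((hqs.mul_right hc).add (hqs.mul_right hc)).sub (hqs.mono (by omega)))
  have hT' : (T : Matrix (Fin n) (Fin n) Eh) = qh * P + (1 - qh) * (1 - P) := by
    rw [hT]
    simp only [Matrix.sub_mul, Matrix.mul_sub, hPP, Matrix.one_mul, Matrix.mul_one]
    abel
  have hTP : qh * (T : Matrix (Fin n) (Fin n) Eh) = (T : Matrix (Fin n) (Fin n) Eh) * P := by
    have e1 : qh * (T : Matrix (Fin n) (Fin n) Eh) = qh * P := by
      rw [hT', mul_add, ← mul_assoc, ← mul_assoc, hqq, mul_sub qh, mul_one, hqq, sub_self, zero_mul, add_zero]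
    have e2 : (T : Matrix (Fin n) (Fin n) Eh) * P = qh * P := by
      rw [hT', add_mul, mul_assoc, mul_assoc, hPP, sub_mul 1 P, one_mul, hPP, sub_self, mul_zero, add_zero]
    rw [e1, e2]
  -- the module
  let ql := Matrix.toLin' q
  have hql : ∀ x, ql (ql x) = ql x := fun x => by
    show Matrix.toLin' q (Matrix.toLin' q x) = _
    rw [← LinearMap.comp_apply, ← Matrix.toLin'_mul, hq]
  let pr : (Fin n → E) →ₗ[E] LinearMap.range ql := ql.rangeRestrict
  let incl := (LinearMap.range ql).subtype
  have hpi : pr ∘ₗ incl = LinearMap.id := LinearMap.ext fun ⟨x, y, hy⟩ => Subtype.ext (by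
    show ql x = x
    rw [← hy, hql])
  have hip : incl ∘ₗ pr = ql := rfl
  refine ⟨LinearMap.range ql, inferInstance, inferInstance, Module.Finite.of_surjective pr ql.surjective_rangeRestrict,
    Module.Projective.of_split incl pr hpi, ?_⟩
  let B := (Algebra.TensorProduct.basis Eh (Pi.basisFun E (Fin n))).equivFun
  let ι := B.toLinearMap ∘ₗ incl.baseChange Eh
  let ρ := pr.baseChange Eh ∘ₗ B.symm.toLinearMap
  have hρι : ∀ x, ρ (ι x) = x := fun x => by
    have h := LinearMap.congr_fun (congrArg (LinearMap.baseChange Eh) hpi) x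
    rw [LinearMap.baseChange_comp, LinearMap.baseChange_id] at h
    simpa [ι, ρ] using h
  have hιρ : ∀ y, ι (ρ y) = Matrix.toLin' qh y := fun y => by
    have h : LinearMap.toMatrix (Algebra.TensorProduct.basis Eh (Pi.basisFun E (Fin n)))
        (Algebra.TensorProduct.basis Eh (Pi.basisFun E (Fin n))) (ql.baseChange Eh) = qh := by
      rw [LinearMap.toMatrix_baseChange, tm', LinearMap.toMatrix'_toLin']
    show B (incl.baseChange Eh (pr.baseChange Eh (B.symm y))) = _
    rw [← LinearMap.comp_apply, ← LinearMap.baseChange_comp, hip]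
    funext i
    have h2 := congrFun (LinearMap.toMatrix_mulVec_repr (Algebra.TensorProduct.basis Eh (Pi.basisFun E (Fin n)))
      (Algebra.TensorProduct.basis Eh (Pi.basisFun E (Fin n))) (ql.baseChange Eh) (B.symm y)) i
    rw [h, ← Module.Basis.equivFun_apply, show B (B.symm y) = y from B.apply_symm_apply y] at h2
    rw [Matrix.toLin'_apply]
    exact h2.symm
  let Tl := Matrix.toLin' (T : Matrix (Fin n) (Fin n) Eh)
  let Tli := Matrix.toLin' (↑T⁻¹ : Matrix (Fin n) (Fin n) Eh)
  have hTTi : ∀ y, Tl (Tli y) = y := fun y => by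
    show Matrix.toLin' _ (Matrix.toLin' _ y) = y
    rw [← LinearMap.comp_apply, ← Matrix.toLin'_mul, Units.mul_inv, Matrix.toLin'_one, LinearMap.id_apply]
  have hTiT : ∀ y, Tli (Tl y) = y := fun y => by
    show Matrix.toLin' _ (Matrix.toLin' _ y) = y
    rw [← LinearMap.comp_apply, ← Matrix.toLin'_mul, Units.inv_mul, Matrix.toLin'_one, LinearMap.id_apply]
  have hqT : ∀ y, Matrix.toLin' qh (Tl y) = Tl (σ (π y)) := fun y => by
    show Matrix.toLin' qh (Matrix.toLin' _ y) = _
    rw [← LinearMap.comp_apply, ← Matrix.toLin'_mul, hTP, Matrix.toLin'_mul, LinearMap.comp_apply, hPdef,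
      Matrix.toLin'_toMatrix']
    rfl
  refine ⟨LinearEquiv.ofLinear (π ∘ₗ Tli ∘ₗ ι) (ρ ∘ₗ Tl ∘ₗ σ) (LinearMap.ext fun x => ?_) (LinearMap.ext fun x => ?_)⟩
  · simp only [LinearMap.comp_apply, LinearMap.id_apply, hιρ, hqT, hTiT, hσ']
  · simp only [LinearMap.comp_apply, LinearMap.id_apply]
    rw [← hqT, hTTi, ← hιρ, hρι, hρι]

end Groth.Agent.ZariskiApprox
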