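import Mathlib

/-!
# Approximation of matrices over `Ah[1/t]` by matrices over `A[1/t]`

`Ah` is a ring in which `A` is `t`-adically dense with `t ^ k Ah ∩ A = t ^ k A`, and `t` lies in both
Jacobson radicals.
-/

set_option autoImplicit false
set_option linter.style.haveILetI false
set_option linter.unusedSectionVars false

universe u

open Matrix TensorProduct

namespace Groth.Agent.ZariskiApprox

variable {A Ah E Eh : Type u} [CommRing A] [CommRing Ah] [CommRing E] [CommRing Eh]
  [Algebra A Ah] [Algebra A E] [Algebra Ah Eh] [Algebra E Eh] [Algebra A Eh]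
  [IsScalarTower A Ah Eh] [IsScalarTower A E Eh] (t : A)

/-- Multiples of `t ^ k` of integral elements. -/
def Small (Ah : Type u) [CommRing Ah] [Algebra A Ah] [Algebra Ah Eh] [Algebra A Eh] (k : ℕ) (z : Eh) : Prop :=
  ∃ a : Ah, z = algebraMap A Eh t ^ k * algebraMap Ah Eh a

/-- Elements with denominator dividing `t ^ c`. -/
def Bdd (Ah : Type u) [CommRing Ah] [Algebra A Ah] [Algebra Ah Eh] [Algebra A Eh] (c : ℕ) (z : Eh) : Prop :=
  ∃ a : Ah, algebraMap A Eh t ^ c * z = algebraMap Ah Eh a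

variable {t}

theorem small_zero (k : ℕ) : Small t Ah k (0 : Eh) := ⟨0, by rw [map_zero, mul_zero]⟩

theorem Small.add {k : ℕ} {z w : Eh} (hz : Small t Ah k z) (hw : Small t Ah k w) : Small t Ah k (z + w) := by
  obtain ⟨a, rfl⟩ := hz
  obtain ⟨b, rfl⟩ := hw
  exact ⟨a + b, by rw [map_add, mul_add]⟩

theorem Small.sum {ι : Type*} (s : Finset ι) {k : ℕ} {z : ι → Eh} (h : ∀ i ∈ s, Small t Ah k (z i)) :
    Small t Ah k (∑ i ∈ s, z i) :=
  Finset.sum_induction _ _ (fun _ _ => Small.add) (small_zero k) h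

theorem Small.mono {k k' : ℕ} (hk : k' ≤ k) {z : Eh} (hz : Small t Ah k z) : Small t Ah k' z := by
  obtain ⟨a, rfl⟩ := hz
  refine ⟨algebraMap A Ah t ^ (k - k') * a, ?_⟩
  rw [map_mul, map_pow, ← IsScalarTower.algebraMap_apply, ← mul_assoc, ← pow_add, Nat.add_sub_cancel' hk]

theorem Small.mul_bdd {k c : ℕ} {z w : Eh} (hz : Small t Ah (k + c) z) (hw : Bdd t Ah c w) :
    Small t Ah k (z * w) := by
  obtain ⟨a, rfl⟩ := hz
  obtain ⟨b, hb⟩ := hw
  refine ⟨a * b, ?_⟩
  rw [map_mul, ← hb, pow_add]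
  ring

theorem Bdd.mono {c c' : ℕ} (hc : c ≤ c') {z : Eh} (hz : Bdd t Ah c z) : Bdd t Ah c' z := by
  obtain ⟨a, ha⟩ := hz
  refine ⟨algebraMap A Ah t ^ (c' - c) * a, ?_⟩
  rw [map_mul, ← ha, map_pow, ← IsScalarTower.algebraMap_apply, ← mul_assoc, ← pow_add, Nat.sub_add_cancel hc]

variable {m n p : Type*} [Fintype m] [Fintype n] [Fintype p] [DecidableEq m] [DecidableEq n] [DecidableEq p]

/-- Matrices with small entries. -/
def SmallM (t : A) (Ah : Type u) [CommRing Ah] [Algebra A Ah] [Algebra Ah Eh] [Algebra A Eh] (k : ℕ)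
    (X : Matrix m n Eh) : Prop := ∀ i j, Small t Ah k (X i j)

/-- Matrices with bounded denominators. -/
def BddM (t : A) (Ah : Type u) [CommRing Ah] [Algebra A Ah] [Algebra Ah Eh] [Algebra A Eh] (c : ℕ)
    (X : Matrix m n Eh) : Prop := ∀ i j, Bdd t Ah c (X i j)

theorem SmallM.mono {k k' : ℕ} (hk : k' ≤ k) {X : Matrix m n Eh} (hX : SmallM t Ah k X) : SmallM t Ah k' X :=
  fun i j => (hX i j).mono hk

theorem SmallM.add {k : ℕ} {X Y : Matrix m n Eh} (hX : SmallM t Ah k X) (hY : SmallM t Ah k Y) :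
    SmallM t Ah k (X + Y) := fun i j => (hX i j).add (hY i j)

theorem SmallM.mul_right {k c : ℕ} {X : Matrix m n Eh} {Y : Matrix n p Eh} (hX : SmallM t Ah (k + c) X)
    (hY : BddM t Ah c Y) : SmallM t Ah k (X * Y) := fun i j => by
  rw [Matrix.mul_apply]
  exact Small.sum _ fun l _ => (hX i l).mul_bdd (hY l j)

theorem SmallM.mul_left {k c : ℕ} {X : Matrix m n Eh} {Y : Matrix n p Eh} (hY : BddM t Ah c X)
    (hX : SmallM t Ah (k + c) Y) : SmallM t Ah k (X * Y) := fun i j => by
  rw [Matrix.mul_apply]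
  exact Small.sum _ fun l _ => by rw [mul_comm]; exact (hX l j).mul_bdd (hY i l)

theorem SmallM.bdd {k c : ℕ} {X : Matrix m n Eh} (hX : SmallM t Ah k X) : BddM t Ah c X := fun i j => by
  obtain ⟨a, ha⟩ := hX i j
  refine ⟨algebraMap A Ah t ^ (c + k) * a, ?_⟩
  rw [ha, map_mul, map_pow, ← IsScalarTower.algebraMap_apply, pow_add, mul_assoc]

variable [IsLocalization.Away t E] [IsLocalization.Away (algebraMap A Ah t) Eh]

theorem exists_bddM (X : Matrix m n Eh) : ∃ c, BddM t Ah c X := by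
  classical
  have h : ∀ z : Eh, ∃ c, Bdd t Ah c z := fun z => by
    obtain ⟨c, a, ha⟩ := IsLocalization.Away.surj (algebraMap A Ah t) z
    exact ⟨c, a, by rw [mul_comm, IsScalarTower.algebraMap_apply A Ah Eh, ha]⟩
  choose c hc using fun ij : m × n => h (X ij.1 ij.2)
  exact ⟨Finset.univ.sup c, fun i j => (hc (i, j)).mono (Finset.le_sup (Finset.mem_univ (i, j)))⟩

variable (hdense : ∀ (y : Ah) (k : ℕ), ∃ (a : A) (z : Ah), y - algebraMap A Ah a = algebraMap A Ah t ^ k * z)
  (hinter : ∀ (a : A) (k : ℕ) (z : Ah), algebraMap A Ah a = algebraMap A Ah t ^ k * z → t ^ k ∣ a)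

include hdense in
theorem exists_approx (X : Matrix m n Eh) (k : ℕ) :
    ∃ f : Matrix m n E, SmallM t Ah k (f.map (algebraMap E Eh) - X) := by
  obtain ⟨c, hc⟩ := exists_bddM (Ah := Ah) (t := t) X
  choose b hb using hc
  choose a z hz using fun i j => hdense (b i j) (c + k)
  obtain ⟨u, hu⟩ := (IsLocalization.Away.algebraMap_isUnit (S := E) t).pow c
  refine ⟨Matrix.of fun i j => algebraMap A E (a i j) * ((u⁻¹ : Eˣ) : E), fun i j => ⟨-z i j, ?_⟩⟩
  have h1 : algebraMap A Eh t ^ c * algebraMap E Eh ((u⁻¹ : Eˣ) : E) = 1 := by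
    rw [IsScalarTower.algebraMap_apply A E Eh, ← map_pow, ← hu, ← map_mul, Units.mul_inv, map_one]
  have h2 := congrArg (algebraMap Ah Eh) (hz i j)
  rw [map_sub, map_mul, map_pow, ← IsScalarTower.algebraMap_apply, ← IsScalarTower.algebraMap_apply, ← hb] at h2
  rw [Matrix.sub_apply, Matrix.map_apply, Matrix.of_apply, map_mul, ← IsScalarTower.algebraMap_apply, map_neg]
  refine ((IsLocalization.Away.algebraMap_isUnit (S := Eh) (algebraMap A Ah t)).pow c).mul_left_cancel ?_
  rw [← IsScalarTower.algebraMap_apply, mul_sub, mul_left_comm, h1, mul_one]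
  rw [pow_add] at h2
  linear_combination -h2

include hinter in
/-- Smallness is reflected. -/
theorem small_reflect {k : ℕ} {e : E} (he : Small t Ah k (algebraMap E Eh e)) :
    ∃ a : A, e = algebraMap A E t ^ k * algebraMap A E a := by
  obtain ⟨b, hb⟩ := he
  obtain ⟨l, x, hx⟩ := IsLocalization.Away.surj t e
  have h1 : algebraMap Ah Eh (algebraMap A Ah x) = algebraMap Ah Eh (algebraMap A Ah t ^ (k + l) * b) := by
    have h := congrArg (algebraMap E Eh) hx
    rw [map_mul, map_pow, ← IsScalarTower.algebraMap_apply, ← IsScalarTower.algebraMap_apply, hb] at h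
    rw [map_mul, map_pow, ← IsScalarTower.algebraMap_apply, ← IsScalarTower.algebraMap_apply, ← h, pow_add]
    ring
  obtain ⟨⟨_, q, rfl⟩, hq⟩ :=
    (IsLocalization.eq_iff_exists (Submonoid.powers (algebraMap A Ah t)) Eh).mp h1
  obtain ⟨a, ha⟩ := hinter (t ^ q * x) (q + (k + l)) b (by
    rw [map_mul, map_pow, pow_add, mul_assoc]; exact hq)
  refine ⟨a, ((IsLocalization.Away.algebraMap_isUnit (S := E) t).pow (q + l)).mul_left_cancel ?_⟩
  have h3 := congrArg (algebraMap A E) ha
  rw [map_mul, map_pow, map_mul, map_pow, ← hx] at h3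
  rw [pow_add]
  rw [pow_add, pow_add] at h3
  linear_combination h3

include hinter in
theorem isUnit_one_add (hjac : t ∈ (⊥ : Ideal A).jacobson) {X : Matrix n n E}
    (hX : SmallM t Ah 1 (X.map (algebraMap E Eh))) : IsUnit (1 + X) := by
  choose a ha using fun i j => small_reflect (E := E) (Eh := Eh) hinter (hX i j)
  have h : (1 : Matrix n n E) + X = (1 + t • Matrix.of a).map (algebraMap A E) := by
    ext i j
    simp [Matrix.one_apply, ha i j, apply_ite (algebraMap A E)]
  rw [h]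
  refine IsUnit.map (algebraMap A E).mapMatrix ?_
  rw [Matrix.isUnit_iff_isUnit_det]
  have hdet : (1 + t • Matrix.of a).det - 1 ∈ (⊥ : Ideal A).jacobson := by
    have h0 : (Ideal.Quotient.mk (⊥ : Ideal A).jacobson).mapMatrix (1 + t • Matrix.of a) = 1 := by
      ext i j
      simp [Matrix.one_apply, apply_ite (Ideal.Quotient.mk _), Ideal.Quotient.eq_zero_iff_mem.mpr hjac]
    rw [← Ideal.Quotient.eq_zero_iff_mem, map_sub, map_one, RingHom.map_det, h0, Matrix.det_one, sub_self]
  have h1 := Ideal.mem_jacobson_bot.mp hdet 1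
  rwa [mul_one, sub_add_cancel] at h1

theorem isUnit_one_add_completed (hjac : algebraMap A Ah t ∈ (⊥ : Ideal Ah).jacobson) {X : Matrix n n Eh}
    (hX : SmallM t Ah 1 X) : IsUnit (1 + X) := by
  choose a ha using hX
  have h : (1 : Matrix n n Eh) + X = (1 + Matrix.of (fun i j => algebraMap A Ah t * a i j)).map (algebraMap Ah Eh) := by
    ext i j
    simp [Matrix.one_apply, ha i j, apply_ite (algebraMap Ah Eh), ← IsScalarTower.algebraMap_apply]
  rw [h]
  refine IsUnit.map (algebraMap Ah Eh).mapMatrix ?_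
  rw [Matrix.isUnit_iff_isUnit_det]
  have hdet : (1 + Matrix.of (fun i j => algebraMap A Ah t * a i j)).det - 1 ∈ (⊥ : Ideal Ah).jacobson := by
    have h0 : (Ideal.Quotient.mk (⊥ : Ideal Ah).jacobson).mapMatrix (1 + Matrix.of (fun i j => algebraMap A Ah t * a i j)) = 1 := by
      ext i j
      simp [Matrix.one_apply, apply_ite (Ideal.Quotient.mk _), Ideal.Quotient.eq_zero_iff_mem.mpr hjac]
    rw [← Ideal.Quotient.eq_zero_iff_mem, map_sub, map_one, RingHom.map_det, h0, Matrix.det_one, sub_self]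
  have h1 := Ideal.mem_jacobson_bot.mp hdet 1
  rwa [mul_one, sub_add_cancel] at h1

end Groth.Agent.ZariskiApprox
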